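import Groth.Agent.AssPointLib.Basic
import Mathlib.RingTheory.Ideal.AssociatedPrime.Finiteness

/-!
# Clearing denominators by a nonzerodivisor
-/

set_option autoImplicit false
set_option linter.style.haveILetI false
universe u

open CategoryTheory CategoryTheory.Limits AlgebraicGeometry TopologicalSpace Opposite DevissLib QCohLib

namespace DetDegLib

variable {X : Scheme.{u}}

/-- An open containing the associated points contains a principal open of a nonzerodivisor. -/
theorem exists_nzd [IsLocallyNoetherian X] {V : X.Opens} (hV : IsAffineOpen V) (W : X.Opens)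
    (hass : ∀ y ∈ V, Curv2.IsWeakAssPoint (Coh.structureModule X) y → y ∈ W) :
    ∃ g : Γ(X, V), g ∈ nonZeroDivisors Γ(X, V) ∧ X.basicOpen g ≤ W := by
  haveI : IsNoetherianRing Γ(X, V) := IsLocallyNoetherian.component_noetherian ⟨V, hV⟩
  haveI : Coh.IsQCoh (Coh.structureModule X) := QCohLib.isQCoh_unit
  have hbo : ∀ (g : Γ(X, V)) (y : X) (hy : y ∈ V),
      y ∈ X.basicOpen g ↔ g ∉ (hV.primeIdealOf ⟨y, hy⟩).asIdeal := fun g y hy =>
    AssPointLib.mem_basicOpen_iff hV hy g
  let I : Ideal Γ(X, V) :=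
  { carrier := {g | X.basicOpen g ≤ W}
    add_mem' := fun {a b} ha hb y hy => by
      have hyV := X.basicOpen_le _ hy
      by_cases h : a ∈ (hV.primeIdealOf ⟨y, hyV⟩).asIdeal
      · exact hb ((hbo b y hyV).mpr fun h' => (hbo _ y hyV).mp hy (add_mem h h'))
      · exact ha ((hbo a y hyV).mpr h)
    zero_mem' := fun y hy => absurd (zero_mem _) ((hbo 0 y (X.basicOpen_le _ hy)).mp hy)
    smul_mem' := fun c a ha y hy => by
      have hyV := X.basicOpen_le _ hy
      exact ha ((hbo a y hyV).mpr fun h => (hbo _ y hyV).mp hy (Ideal.mul_mem_left _ c h)) }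
  suffices ¬ ((I : Set Γ(X, V)) ⊆ (nonZeroDivisors Γ(X, V) : Set Γ(X, V))ᶜ) by
    obtain ⟨g, hg, hg'⟩ := Set.not_subset.mp this
    exact ⟨g, not_not.mp hg', hg⟩
  intro hsub
  rw [← biUnion_associatedPrimes_eq_compl_nonZeroDivisors] at hsub
  obtain ⟨P, hP, hIP⟩ := (I.subset_union_prime_finite (associatedPrimes.finite _ _) (f := id) 0 0
    fun _ h _ _ => h.1).1 hsub
  let q : PrimeSpectrum Γ(X, V) := ⟨P, hP.1⟩
  have hy : hV.fromSpec q ∈ V := by
    have : hV.fromSpec q ∈ Set.range hV.fromSpec := ⟨q, rfl⟩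
    rwa [hV.range_fromSpec] at this
  have hpr : hV.primeIdealOf ⟨hV.fromSpec q, hy⟩ = q :=
    hV.fromSpec.isOpenEmbedding.injective (hV.fromSpec_primeIdealOf ⟨_, hy⟩)
  have hweak : Curv2.IsWeakAssPoint (Coh.structureModule X) (hV.fromSpec q) := by
    refine (AssPointLib.weak_iff hV hy).mpr ?_
    rw [hpr]
    exact AssPointLib.minimal_of_isAssociatedPrime hP
  obtain ⟨h, hhW, hyh⟩ := QCohLib.exists_basicOpen_nhd hV (hass _ hy hweak) hy
  exact (hpr ▸ (hbo h _ hy).mp hyh) (hIP hhW)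

/-- Sections over an affine open extend after multiplication by a power. -/
theorem exists_lift {M : X.Modules} [Coh.IsQCoh M] {V W : X.Opens} (hV : IsAffineOpen V)
    (hW : IsAffineOpen W) (hWV : W ≤ V) (g : Γ(X, V)) (hg : X.basicOpen g ≤ W) (r : Γ(M, W)) :
    ∃ (N : ℕ) (t : Γ(M, V)), M.presheaf.map (homOfLE hWV).op t =
      (X.presheaf.map (homOfLE hWV).op g) ^ N • r := by
  obtain ⟨N, t, ht⟩ := (QCohLib.localizingAt_of_isQCoh hV M g).exists_extend
    (M.presheaf.map (homOfLE hg).op r)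
  let z : Γ(M, W) := M.presheaf.map (homOfLE hWV).op t - (X.presheaf.map (homOfLE hWV).op g) ^ N • r
  obtain ⟨m, hm⟩ := QCohLib.exists_pow_smul_eq_zero (M := M) g W hW.isCompact hWV z (by
    have h1 := congrArg (M.presheaf.map (homOfLE (inf_le_right : W ⊓ X.basicOpen g ≤ X.basicOpen g)).op) ht
    rw [map_map', homOfLE_comp, map_smul_pow, map_map', homOfLE_comp] at h1
    rw [map_sub, sub_eq_zero, map_map', homOfLE_comp, map_smul_pow]
    exact h1)
  refine ⟨m + N, g ^ m • t, ?_⟩
  rw [smul_sub, sub_eq_zero, smul_smul, ← pow_add] at hm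
  rw [QCohLib.map_smul', map_pow]
  exact hm

/-- Restriction is injective on functions when a nonzerodivisor cuts out a smaller open. -/
theorem res_injective {V W : X.Opens} (hV : IsAffineOpen V) (hWV : W ≤ V) {g : Γ(X, V)}
    (hg : g ∈ nonZeroDivisors Γ(X, V)) (hgW : X.basicOpen g ≤ W) :
    Function.Injective (X.presheaf.map (homOfLE hWV).op) := by
  refine (injective_iff_map_eq_zero (X.presheaf.map (homOfLE hWV).op).hom).mpr fun r hr => ?_
  haveI : IsLocalization.Away g Γ(X, X.basicOpen g) := hV.isLocalization_basicOpen g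
  have h0 : algebraMap Γ(X, V) Γ(X, X.basicOpen g) r = 0 := by
    have h1 := congrArg (X.presheaf.map (homOfLE hgW).op) hr
    rw [map_zero, ← CommRingCat.comp_apply, ← Functor.map_comp] at h1
    exact h1
  obtain ⟨⟨_, m, rfl⟩, hm⟩ := (IsLocalization.map_eq_zero_iff (Submonoid.powers g) _ r).mp h0
  exact mem_nonZeroDivisors_iff_right.mp (pow_mem hg m) r ((mul_comm _ _).trans hm)

/-- Germs of nonzerodivisors are nonzerodivisors. -/
theorem germ_nzd {V : X.Opens} (hV : IsAffineOpen V) {x : X} (hx : x ∈ V) {g : Γ(X, V)}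
    (hg : g ∈ nonZeroDivisors Γ(X, V)) :
    X.presheaf.germ V x hx g ∈ nonZeroDivisors (X.presheaf.stalk x) := by
  letI := X.presheaf.algebra_section_stalk (⟨x, hx⟩ : V)
  haveI : IsLocalization.AtPrime (X.presheaf.stalk x) (hV.primeIdealOf ⟨x, hx⟩).asIdeal :=
    hV.isLocalization_stalk ⟨x, hx⟩
  exact (IsLocalization.toLocalizationMap (hV.primeIdealOf ⟨x, hx⟩).asIdeal.primeCompl
    (X.presheaf.stalk x)).map_nonZeroDivisors_le ⟨g, hg, rfl⟩

end DetDegLib
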