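import Groth.Agent.DetDegLib.Frame
import Groth.Agent.DetDegLib.Clear

/-!
# A module inside the pushforward of its restriction
-/

set_option autoImplicit false
set_option linter.style.haveILetI false
universe u

open CategoryTheory CategoryTheory.Limits AlgebraicGeometry TopologicalSpace Opposite DevissLib QCohLib

noncomputable section

namespace DetDegLib

variable {X : Scheme.{u}}

/-- The pushforward of the restriction to an open. -/
abbrev Pu (U : X.Opens) (M : X.Modules) : X.Modules :=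
  (Scheme.Modules.pushforward U.ι).obj (M.restrict U.ι)

/-- The unit. -/
def eta (U : X.Opens) (M : X.Modules) : M ⟶ Pu U M :=
  (Scheme.Modules.restrictAdjunction U.ι).unit.app M

variable {U : X.Opens} {M : X.Modules}

theorem image_le_U (W : X.Opens) : U.ι ''ᵁ (U.ι ⁻¹ᵁ W) ≤ U := by
  rintro _ ⟨y, -, rfl⟩
  exact y.2

theorem eta_app (W : X.Opens) (a : Γ(M, W)) :
    (eta U M).app W a = M.presheaf.map (homOfLE (U.ι.image_preimage_le W)).op a :=
  congr($(Scheme.Modules.restrictAdjunction_unit_app_app U.ι M W) a)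

theorem pu_smul (V : X.Opens) (r : Γ(X, V)) (z : Γ(Pu U M, V)) :
    (r • z : Γ(Pu U M, V)) = ((X.presheaf.map (homOfLE (U.ι.image_preimage_le V)).op r) •
      (show Γ(M, U.ι ''ᵁ (U.ι ⁻¹ᵁ V)) from z)) := by
  change ((U.ι.appIso _).inv ((U.ι.app V) r)) • (show Γ(M, U.ι ''ᵁ (U.ι ⁻¹ᵁ V)) from z) = _
  congr 1
  rw [← CommRingCat.comp_apply, Scheme.Hom.app_appIso_inv]
  rfl

/-- A section over `U` as a global section of the pushforward. -/
def eP (e : Γ(M, U)) : Γ(Pu U M, ⊤) :=
  (show Γ(M, U.ι ''ᵁ (U.ι ⁻¹ᵁ (⊤ : X.Opens))) from M.presheaf.map (homOfLE (image_le_U ⊤)).op e)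

/-- A relation over `V ⊓ U` at a germ of the pushforward. -/
theorem gm_rel {V : X.Opens} {x : X} (hx : x ∈ V) (f : Γ(X, V)) (e : Γ(M, U)) (z : Γ(M, V))
    (h : X.presheaf.map (homOfLE (inf_le_left : V ⊓ U ≤ V)).op f •
        M.presheaf.map (homOfLE (inf_le_right : V ⊓ U ≤ U)).op e =
      M.presheaf.map (homOfLE (inf_le_left : V ⊓ U ≤ V)).op z) :
    X.presheaf.germ V x hx f • gm (Pu U M) x (show x ∈ (⊤ : X.Opens) from trivial) (eP e) =
      ((St x).map (eta U M)).hom (gm M x hx z) := by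
  rw [gm_app (eta U M) x hx z, ← gm_map (Pu U M) (le_top : V ≤ ⊤) x hx (eP e), ← gm_smul]
  refine congrArg (gm (Pu U M) x hx) ?_
  rw [pu_smul, eta_app]
  let W' : X.Opens := U.ι ''ᵁ (U.ι ⁻¹ᵁ V)
  have hW' : W' ≤ V ⊓ U := le_inf (U.ι.image_preimage_le V) (image_le_U V)
  have h1 := congrArg (M.presheaf.map (homOfLE hW').op) h
  rw [QCohLib.map_smul', map_map', map_map', homOfLE_comp, homOfLE_comp] at h1
  refine Eq.trans ?_ h1
  congr 1
  · rw [← CommRingCat.comp_apply, ← Functor.map_comp]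
    rfl
  · exact map_map' M (homOfLE (U.ι.image_mono (U.ι.preimage_mono le_top))) (homOfLE (image_le_U ⊤)) e

theorem eta_surjective {x : X} (hx : x ∈ U) : Function.Surjective ((St x).map (eta U M)).hom := by
  intro p
  obtain ⟨W, hxW, t, rfl⟩ := exists_gm_eq (Pu U M) x p
  let W' : X.Opens := U.ι ''ᵁ (U.ι ⁻¹ᵁ W)
  have hxW' : x ∈ W' := ⟨⟨x, hx⟩, hxW, rfl⟩
  refine ⟨gm M x hxW' (show Γ(M, W') from t), ?_⟩
  rw [gm_app (eta U M) x hxW', eta_app, ← gm_map (Pu U M) (U.ι.image_preimage_le W) x hxW' t]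
  rfl

theorem eta_injective_on {x : X} (hx : x ∈ U) : Function.Injective ((St x).map (eta U M)).hom := by
  refine (injective_iff_map_eq_zero _).mpr fun a ha => ?_
  obtain ⟨W, hxW, z, rfl⟩ := exists_gm_eq M x a
  rw [gm_app] at ha
  obtain ⟨W', hxW', i₁, i₂, hW'⟩ := TopCat.Presheaf.germ_eq (Pu U M).presheaf x hxW hxW
    ((eta U M).app W z) 0 (ha.trans (gm_zero _ x hxW).symm)
  rw [map_zero] at hW'
  have hW'' : (eta U M).app W' (M.presheaf.map i₁.op z) = 0 :=
    (QCohLib.app_map (eta U M) i₁ z).trans hW'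
  rw [eta_app] at hW''
  have hxW'' : x ∈ U.ι ''ᵁ (U.ι ⁻¹ᵁ W') := ⟨⟨x, hx⟩, hxW', rfl⟩
  rw [← gm_map M i₁.le x hxW', ← gm_map M (U.ι.image_preimage_le W') x hxW'']
  exact (congr_arg (gm M x hxW'') hW'').trans (gm_zero M x hxW'')

/-- The unit is injective where a frame exists and a nonzerodivisor cuts out a part of `U`. -/
theorem eta_injective {n : ℕ} {V : X.Opens} (hV : IsAffineOpen V) (b : Fin n → Γ(M, V))
    (hb : ∀ (y : X) (hy : y ∈ V), FrameAt M b hy) {g : Γ(X, V)} (hg : g ∈ nonZeroDivisors Γ(X, V))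
    (hgU : X.basicOpen g ≤ U) {x : X} (hx : x ∈ V) :
    Function.Injective ((St x).map (eta U M)).hom := by
  refine (injective_iff_map_eq_zero _).mpr fun a ha => ?_
  obtain ⟨c, rfl⟩ := (hb x hx).2 a
  let p := (hV.primeIdealOf ⟨x, hx⟩).asIdeal
  letI := X.presheaf.algebra_section_stalk (⟨x, hx⟩ : V)
  haveI : IsLocalization.AtPrime (X.presheaf.stalk x) p := hV.isLocalization_stalk ⟨x, hx⟩
  obtain ⟨s, hs⟩ := IsLocalization.exist_integer_multiples_of_finite p.primeCompl c
  choose r hr using hs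
  have hr' : ∀ i, X.presheaf.germ V x hx (r i) = X.presheaf.germ V x hx (s : Γ(X, V)) * c i :=
    fun i => (hr i).trans (Algebra.smul_def _ _)
  let z := ∑ i, r i • b i
  have hz : gm M x hx z = X.presheaf.germ V x hx (s : Γ(X, V)) • ∑ i, c i • gm M x hx (b i) := by
    refine (gm_combo M b hx r).trans ?_
    rw [Finset.smul_sum]
    exact Finset.sum_congr rfl fun i _ => by rw [hr', mul_smul]
  have hz0 : gm (Pu U M) x hx ((eta U M).app V z) = 0 := by
    rw [← gm_app (eta U M) x hx z, hz, map_smul, ha, smul_zero]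
  obtain ⟨W, hxW, i₁, i₂, hW⟩ := TopCat.Presheaf.germ_eq (Pu U M).presheaf x hx hx
    ((eta U M).app V z) 0 (hz0.trans (gm_zero _ x hx).symm)
  rw [map_zero] at hW
  have hW' : (eta U M).app W (M.presheaf.map i₁.op z) = 0 := (QCohLib.app_map (eta U M) i₁ z).trans hW
  rw [eta_app, map_map'] at hW'
  obtain ⟨h, hhW, hxh⟩ := QCohLib.exists_basicOpen_nhd hV hxW hx
  have key : ∀ i, X.presheaf.germ V x hx (r i) = 0 := by
    intro i
    haveI : IsLocalization.Away (h * g) Γ(X, X.basicOpen (h * g)) := hV.isLocalization_basicOpen _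
    have h0 : algebraMap Γ(X, V) Γ(X, X.basicOpen (h * g)) (r i) = 0 := by
      refine TopCat.Presheaf.section_ext X.sheaf _ _ _ fun y hy => ?_
      have hy' := hy
      rw [Scheme.basicOpen_mul] at hy'
      have hyU : y ∈ U := hgU hy'.2
      have hyW : y ∈ U.ι ''ᵁ (U.ι ⁻¹ᵁ W) := ⟨⟨y, hyU⟩, hhW hy'.1, rfl⟩
      have hyV : y ∈ V := X.basicOpen_le _ hy
      have h1 : gm M y hyV z = 0 := by
        rw [← gm_map M ((U.ι.image_preimage_le W).trans i₁.le) y hyW z]
        exact (congrArg (gm M y hyW) hW').trans (gm_zero M y hyW)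
      have h2 := congrFun ((hb y hyV).1 (a₁ := fun i => X.presheaf.germ V y hyV (r i)) (a₂ := 0)
        ((((gm_combo M b hyV r).symm).trans h1).trans (by simp))) i
      exact (TopCat.Presheaf.germ_res_apply X.presheaf _ y hy (r i)).trans (h2.trans (map_zero _).symm)
    obtain ⟨⟨_, m, rfl⟩, hm⟩ := (IsLocalization.map_eq_zero_iff (Submonoid.powers (h * g)) _ (r i)).mp h0
    have h3 : h ^ m * r i = 0 := mem_nonZeroDivisors_iff_right.mp (pow_mem hg m) _ (by
      rw [← hm]; change h ^ m * r i * g ^ m = (h * g) ^ m * r i; ring)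
    have h4 := congrArg (X.presheaf.germ V x hx) h3
    rw [map_mul, map_pow, map_zero] at h4
    exact (((X.mem_basicOpen h x hx).mp hxh).pow m).mul_right_eq_zero.mp h4
  refine Finset.sum_eq_zero fun i _ => ?_
  have hc : c i = 0 :=
    (AssPointLib.isUnit_germ hV hx s.2).mul_right_eq_zero.mp ((hr' i).symm.trans (key i))
  rw [hc, zero_smul]

variable {n : ℕ}

/-- The map from the free module given by sections over `U`. -/
def aMap (e : Fin n → Γ(M, U)) : FlatMod.freeMod X n ⟶ Pu U M :=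
  Sigma.desc fun i => unitHom (Pu U M) (eP (e i))

/-- The standard sections of the free module. -/
def freeSec (X : Scheme.{u}) (n : ℕ) (i : Fin n) : Γ(FlatMod.freeMod X n, ⊤) :=
  (Sigma.ι (fun _ : Fin n => Coh.structureModule X) i).app ⊤ (1 : Γ(X, ⊤))

theorem aMap_freeSec (e : Fin n → Γ(M, U)) (i : Fin n) {x : X} :
    ((St x).map (aMap e)).hom (gm (FlatMod.freeMod X n) x (show x ∈ (⊤ : X.Opens) from trivial)
      (freeSec X n i)) = gm (Pu U M) x (show x ∈ (⊤ : X.Opens) from trivial) (eP (e i)) := by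
  rw [gm_app]
  refine congrArg (gm (Pu U M) x _) ?_
  have h : (Sigma.ι (fun _ : Fin n => Coh.structureModule X) i ≫ aMap e).app ⊤ (1 : Γ(X, ⊤)) =
      eP (e i) := by
    rw [aMap, Sigma.ι_desc, unitHom_app, one_smul]
    exact congr($((Pu U M).presheaf.map_id (op ⊤)) _)
  exact h

/-- Linear maps out of the stalk of the free module are determined on the standard sections. -/
theorem freeSec_ext {x : X} {N : ModuleCat.{u} (X.presheaf.stalk x)}
    (φ ψ : (St x).obj (FlatMod.freeMod X n) ⟶ N)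
    (h : ∀ i, φ.hom (gm (FlatMod.freeMod X n) x (show x ∈ (⊤ : X.Opens) from trivial) (freeSec X n i)) =
      ψ.hom (gm (FlatMod.freeMod X n) x (show x ∈ (⊤ : X.Opens) from trivial) (freeSec X n i))) :
    φ = ψ := by
  refine (isColimitOfPreserves (St x)
    (coproductIsCoproduct fun _ : Fin n => Coh.structureModule X)).hom_ext fun ⟨i⟩ => ?_
  refine ModuleCat.hom_ext (LinearMap.ext fun a => ?_)
  obtain ⟨c, hc⟩ := ((AmpleLib.one_genOn (X := X) ⊤).genAt (show x ∈ (⊤ : X.Opens) from trivial)).2 a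
  obtain rfl : a = c • gm (Coh.structureModule X) x (show x ∈ (⊤ : X.Opens) from trivial) (1 : Γ(X, ⊤)) :=
    hc.symm
  change φ.hom (((St x).map (Sigma.ι (fun _ : Fin n => Coh.structureModule X) i)).hom _) =
    ψ.hom (((St x).map (Sigma.ι (fun _ : Fin n => Coh.structureModule X) i)).hom _)
  rw [map_smul, gm_app, map_smul, map_smul]
  exact congrArg (c • ·) (h i)

theorem frameAt_freeSec (x : X) :
    FrameAt (FlatMod.freeMod X n) (freeSec X n) (show x ∈ (⊤ : X.Opens) from trivial) := by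
  let R := X.presheaf.stalk x
  let N := (St x).obj (FlatMod.freeMod X n)
  let Φ : (Fin n → R) →ₗ[R] N := Fintype.linearCombination R
    (fun i => (gm (FlatMod.freeMod X n) x (show x ∈ (⊤ : X.Opens) from trivial) (freeSec X n i) : N))
  have hsurj : Function.Surjective Φ := by
    rw [← LinearMap.range_eq_top]
    refine Submodule.ker_mkQ (LinearMap.range Φ) ▸ ?_
    have h := freeSec_ext (N := ModuleCat.of R (N ⧸ LinearMap.range Φ))
      (ModuleCat.ofHom (LinearMap.range Φ).mkQ) 0 fun i =>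
        (Submodule.Quotient.mk_eq_zero _).mpr ⟨Pi.single i 1, by
          simp [Φ, Fintype.linearCombination_apply_single]⟩
    rw [show (LinearMap.range Φ).mkQ = 0 from congrArg ModuleCat.Hom.hom h, LinearMap.ker_zero]
  let E := (KFlatLib.stalkFreeModIso X x n).toLinearEquiv
  have hb : Function.Bijective (E.toLinearMap.comp Φ) :=
    OrzechProperty.bijective_of_surjective_endomorphism _ (E.surjective.comp hsurj)
  exact (Function.Bijective.of_comp_iff' E.bijective Φ).mp hb

end DetDegLib
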