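import Groth.Agent.DetDegLib.Algebra
import Groth.Agent.DetDegLib.Push
import Groth.Agent.CurvLib.StalkSum
import Groth.Agent.CurveAmpLib.Integral
import Groth.Agent.HilbPolyLib.Snapper

/-!
# Euler characteristic through a frame on an open with finite complement
-/

set_option autoImplicit false
set_option linter.style.haveILetI false
universe u

open CategoryTheory CategoryTheory.Limits AlgebraicGeometry TopologicalSpace Opposite DevissLib QCohLib

noncomputable section

namespace DetDegLib

variable (k : Type u) [Field k] {X : Scheme.{u}} [X.Over (Spec (CommRingCat.of k))]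

/-- The local contribution of a pair of equations. -/
def degTerm (x : X) (d f : X.presheaf.stalk x) : ℤ :=
  letI : Algebra k (X.presheaf.stalk x) := Curv2.stalkAlgebra k X x
  ((resDeg k (X.presheaf.stalk x)).toNat : ℤ) *
    ((Ring.ord (X.presheaf.stalk x) d).toNat - (Ring.ord (X.presheaf.stalk x) f).toNat)

theorem tower_stalk (M : X.Modules) (x : X) :
    letI : Algebra k (X.presheaf.stalk x) := Curv2.stalkAlgebra k X x
    letI := CurvLib.stalkModule (k := k) M x
    IsScalarTower k (X.presheaf.stalk x) ((St x).obj M) :=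
  letI : Algebra k (X.presheaf.stalk x) := Curv2.stalkAlgebra k X x
  letI := CurvLib.stalkModule (k := k) M x
  IsScalarTower.of_algebraMap_smul fun _ _ => rfl

theorem coker_equiv {A B : X.Modules} (φ : A ⟶ B) (x : X) {n : ℕ}
    (ψ : (Fin n → X.presheaf.stalk x) →ₗ[X.presheaf.stalk x] (St x).obj A) (hψ : Function.Surjective ψ) :
    Nonempty (((St x).obj B ⧸ LinearMap.range (((St x).map φ).hom.comp ψ)) ≃ₗ[X.presheaf.stalk x]
      (St x).obj (cokernel φ)) := by
  let S : ShortComplex X.Modules := ShortComplex.mk φ (cokernel.π φ) (cokernel.condition φ)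
  have hS : S.Exact := ShortComplex.exact_of_g_is_cokernel _ (cokernelIsCokernel φ)
  have hSx := hS.map (St x)
  have hπ : Function.Surjective ((St x).map (cokernel.π φ)).hom :=
    (ModuleCat.epi_iff_surjective _).mp (inferInstanceAs (Epi ((St x).map (cokernel.π φ))))
  have hk : LinearMap.range (((St x).map φ).hom.comp ψ) = LinearMap.ker ((St x).map (cokernel.π φ)).hom := by
    rw [LinearMap.range_comp, LinearMap.range_eq_top.mpr hψ, Submodule.map_top]
    exact hSx.moduleCat_range_eq_ker
  exact ⟨(Submodule.quotEquivOfEq _ _ hk).trans (LinearMap.quotKerEquivOfSurjective _ hπ)⟩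

variable [IsProper (X ↘ Spec (CommRingCat.of k))]

theorem euler_zero_or_biprod {A B : X.Modules} (hA : Coh.IsCoh A) (hB : Coh.IsCoh B) :
    Curv2.euler k X (A ⊞ B) = Curv2.euler k X A + Curv2.euler k X B := by
  haveI := CurvLib.isNoetherian k (X := X)
  exact CurvLib.euler_add_of_isCoh (k := k) (S := ShortComplex.mk biprod.inl biprod.snd biprod.inl_snd)
    (ShortComplex.Splitting.shortExact
      { r := biprod.fst, s := biprod.inr, f_r := biprod.inl_fst, s_g := biprod.inr_snd,
        id := biprod.total }) hA (DevissLib.isCoh_biprod hA hB) hB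

theorem euler_freeMod (n : ℕ) :
    Curv2.euler k X (FlatMod.freeMod X n) = n * Curv2.euler k X (Coh.structureModule X) := by
  induction n with
  | zero =>
    rw [HilbPolyLib.euler_zero, Nat.cast_zero, zero_mul]
    rw [IsZero.iff_id_eq_zero]
    exact Sigma.hom_ext _ _ fun i => i.elim0
  | succ n ih =>
    rw [CurvLib.euler_congr (k := k) (CurvLib.freeModSucc X n), euler_zero_or_biprod k
      (DevissLib.isCoh_structureModule X) ⟨CurvLib.isQCoh_freeMod X n, CurvLib.isFT_freeMod X n⟩, ih]
    push_cast
    ring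

/-- The Euler characteristic of a module with a frame away from finitely many points. -/
theorem euler_frame (hdim : topologicalKrullDim X ≤ 1) {n : ℕ} {M : X.Modules} (hM : Coh.IsCoh M)
    {U : X.Opens} (e : Fin n → Γ(M, U)) (hT : ((U : Set X)ᶜ).Finite)
    (hTd : topologicalKrullDim ↥((U : Set X)ᶜ) ≤ 0)
    (he : ∀ (x : X) (hx : x ∈ U), FrameAt M e hx)
    (f : ∀ x : X, X.presheaf.stalk x) (G : ∀ x : X, Matrix (Fin n) (Fin n) (X.presheaf.stalk x))
    (hdat : ∀ x : X, x ∉ U → ∃ b : Fin n → (St x).obj M,
      Function.Bijective (fun c : Fin n → X.presheaf.stalk x => ∑ i, c i • b i) ∧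
      f x ∈ nonZeroDivisors (X.presheaf.stalk x) ∧ (G x).det ∈ nonZeroDivisors (X.presheaf.stalk x) ∧
      Function.Injective ((St x).map (eta U M)).hom ∧
      ∀ j, f x • gm (Pu U M) x (show x ∈ (⊤ : X.Opens) from trivial) (eP (e j)) =
        ∑ i, G x i j • ((St x).map (eta U M)).hom (b i)) :
    Curv2.euler k X M - n * Curv2.euler k X (Coh.structureModule X) =
      ∑ x ∈ hT.toFinset, degTerm k x (G x).det (f x ^ n) := by
  classical
  haveI := CurvLib.isNoetherian k (X := X)
  haveI : NoetherianSpace (↑U : Scheme.{u}) := U.ι.isOpenEmbedding.isInducing.noetherianSpace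
  haveI : QuasiCompact U.ι := ⟨fun V _ _ => NoetherianSpace.isCompact _⟩
  haveI : Coh.IsQCoh M := hM.1
  have hP : Coh.IsQCoh (Pu U M) := QCohLib.isQCoh_pushforward U.ι _
  haveI := hP
  let F := FlatMod.freeMod X n
  have hF : Coh.IsCoh F := ⟨CurvLib.isQCoh_freeMod X n, CurvLib.isFT_freeMod X n⟩
  haveI : Coh.IsQCoh F := hF.1
  haveI : Coh.IsQCoh (F ⊞ M) := QCohLib.isQCoh_biprod F M
  let φ : F ⊞ M ⟶ Pu U M := biprod.desc (aMap e) (eta U M)
  let S := Abelian.image φ
  have hS : Coh.IsCoh S := ⟨QCohLib.isQCoh_image φ,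
    QCohLib.isFT_of_epi (Abelian.factorThruImage φ) (DevissLib.isCoh_biprod hF hM).2⟩
  let ι : S ⟶ Pu U M := Abelian.image.ι φ
  let a' : F ⟶ S := biprod.inl ≫ Abelian.factorThruImage φ
  let η' : M ⟶ S := biprod.inr ≫ Abelian.factorThruImage φ
  have hι : ∀ x : X, Function.Injective ((St x).map ι).hom := fun x =>
    (ModuleCat.mono_iff_injective _).mp inferInstance
  have hia : a' ≫ ι = aMap e := by
    rw [Category.assoc, Abelian.image.fac, biprod.inl_desc]
  have hiη : η' ≫ ι = eta U M := by
    rw [Category.assoc, Abelian.image.fac, biprod.inr_desc]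
  let ψ : ∀ x : X, (Fin n → X.presheaf.stalk x) →ₗ[X.presheaf.stalk x] (St x).obj F := fun x =>
    Fintype.linearCombination (X.presheaf.stalk x) (fun i =>
      (gm F x (show x ∈ (⊤ : X.Opens) from trivial) (freeSec X n i) : (St x).obj F))
  have hψ : ∀ x, Function.Bijective (ψ x) := frameAt_freeSec
  let α : ∀ x : X, (Fin n → X.presheaf.stalk x) →ₗ[X.presheaf.stalk x] (St x).obj S := fun x =>
    ((St x).map a').hom.comp (ψ x)
  have hιη : ∀ (x : X) (m : (St x).obj M),
      ((St x).map ι).hom (((St x).map η').hom m) = ((St x).map (eta U M)).hom m := fun x m => by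
    rw [← congrArg (fun g => ((St x).map g).hom m) hiη]
    exact (congr($((St x).map_comp η' ι) m)).symm
  have hια : ∀ (x : X) (c : Fin n → X.presheaf.stalk x), ((St x).map ι).hom (α x c) =
      ∑ i, c i • gm (Pu U M) x (show x ∈ (⊤ : X.Opens) from trivial) (eP (e i)) := fun x c => by
    have : ((St x).map ι).hom (α x c) = ((St x).map (aMap e)).hom (ψ x c) := by
      rw [← congrArg (fun g => ((St x).map g).hom (ψ x c)) hia]
      exact (congr($((St x).map_comp a' ι) (ψ x c))).symm
    rw [this]
    change ((St x).map (aMap e)).hom (∑ i, c i • (gm F x _ (freeSec X n i) : (St x).obj F)) = _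
    rw [map_sum]
    exact Finset.sum_congr rfl fun i _ => by rw [map_smul, aMap_freeSec]
  -- on `U` both maps are bijective
  have hon : ∀ x ∈ U, Function.Bijective (α x) ∧ Function.Bijective ((St x).map η').hom := by
    intro x hx
    have hη : Function.Bijective ((St x).map (eta U M)).hom := ⟨eta_injective_on hx, eta_surjective hx⟩
    have hrel : ∀ i, gm (Pu U M) x (show x ∈ (⊤ : X.Opens) from trivial) (eP (e i)) =
        ((St x).map (eta U M)).hom (gm M x hx (e i)) := fun i => by
      have h := gm_rel (M := M) hx (1 : Γ(X, U)) (e i) (e i) (by rw [map_one, one_smul])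
      rw [map_one, one_smul] at h
      exact h
    have hη' : Function.Bijective ((St x).map η').hom := by
      refine ⟨fun a b h => hη.1 ?_, fun s => ?_⟩
      · rw [← hιη, ← hιη, h]
      · obtain ⟨m, hm⟩ := hη.2 (((St x).map ι).hom s)
        exact ⟨m, hι x ((hιη x m).trans hm)⟩
    have hcomp : ∀ c, ((St x).map ι).hom (α x c) =
        ((St x).map (eta U M)).hom (∑ i, c i • gm M x hx (e i)) := fun c => by
      rw [hια, map_sum]
      exact Finset.sum_congr rfl fun i _ => by rw [map_smul, hrel]
    refine ⟨⟨fun c d h => (he x hx).1 (hη.1 ?_), fun s => ?_⟩, hη'⟩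
    · rw [← hcomp, ← hcomp, h]
    · obtain ⟨m, hm⟩ := hη.2 (((St x).map ι).hom s)
      obtain ⟨c, rfl⟩ := (he x hx).2 m
      exact ⟨c, hι x ((hcomp c).trans hm)⟩
  -- off `U` both are injective
  have hoff : ∀ x, x ∉ U → ∃ β : (Fin n → X.presheaf.stalk x) →ₗ[X.presheaf.stalk x] (St x).obj M,
      Function.Bijective β ∧ Function.Injective (α x) ∧ Function.Injective ((St x).map η').hom ∧
      f x ∈ nonZeroDivisors _ ∧ (G x).det ∈ nonZeroDivisors _ ∧
      ∀ v, ((St x).map η').hom (β ((G x).mulVec v)) = f x • α x v := by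
    intro x hx
    obtain ⟨b, hb, hf, hG, hη, hrel⟩ := hdat x hx
    let β := Fintype.linearCombination (X.presheaf.stalk x) b
    have hη' : Function.Injective ((St x).map η').hom := fun a c h => hη (by rw [← hιη, ← hιη, h])
    have hv : ∀ v, ((St x).map η').hom (β ((G x).mulVec v)) = f x • α x v := fun v => hι x <| by
      rw [hιη, map_smul, hια]
      change ((St x).map (eta U M)).hom (∑ i, (G x).mulVec v i • b i) = _
      rw [← comb_mulVec b (fun j => ∑ i, G x i j • b i) (G x) (fun _ => rfl) v, map_sum, Finset.smul_sum]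
      refine Finset.sum_congr rfl fun j _ => ?_
      rw [map_smul, smul_comm, hrel, map_sum]
      exact congrArg (v j • ·) (Finset.sum_congr rfl fun i _ => map_smul _ _ _)
    refine ⟨β, hb, (injective_iff_map_eq_zero _).mpr fun c hc => ?_, hη', hf, hG, hv⟩
    have h0 := hv c
    rw [hc, smul_zero] at h0
    exact LengthDetLib.injective_mulVec (G x) hG
      ((hb.1 (hη' (h0.trans (((congrArg _ (map_zero β)).trans (map_zero _)).symm)))).trans (map_zero _).symm)
  haveI : Mono a' := Preadditive.mono_of_kernel_zero ((isZero_of_support_empty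
    (Set.eq_empty_of_forall_notMem fun x => notMem_support_kernel a' x (by
      have : Function.Injective (α x) := by
        by_cases hx : x ∈ U
        · exact (hon x hx).1.1
        · exact (hoff x hx).choose_spec.2.1
      intro a b h
      obtain ⟨c, rfl⟩ := (hψ x).2 a
      obtain ⟨d, rfl⟩ := (hψ x).2 b
      exact congrArg (ψ x) (this h)))).eq_of_src _ _)
  haveI : Mono η' := Preadditive.mono_of_kernel_zero ((isZero_of_support_empty
    (Set.eq_empty_of_forall_notMem fun x => notMem_support_kernel η' x (by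
        by_cases hx : x ∈ U
        · exact (hon x hx).2.1
        · exact (hoff x hx).choose_spec.2.2.1))).eq_of_src _ _)
  have hadd : ∀ {A : X.Modules} (g : A ⟶ S) [Mono g], Coh.IsCoh A →
      CohB1.support (cokernel g) ⊆ (U : Set X)ᶜ →
      Curv2.euler k X S = Curv2.euler k X A +
        ((∑ x ∈ hT.toFinset, CurvLib.stalkDim k (cokernel g) x : ℕ) : ℤ) ∧
      ∀ x, letI := CurvLib.stalkModule (k := k) (cokernel g) x
        Module.Finite k ((St x).obj (cokernel g)) := by
    intro A g _ hA hsupp
    have hQ := QCohLib.isCoh_cokernel g hA.1 hS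
    let C : ShortComplex X.Modules := ShortComplex.mk g (cokernel.π g) (cokernel.condition g)
    have hC : C.ShortExact :=
      { exact := ShortComplex.exact_of_g_is_cokernel _ (cokernelIsCokernel g)
        mono_f := inferInstanceAs (Mono g)
        epi_g := inferInstanceAs (Epi (cokernel.π g)) }
    have h := CurvLib.euler_add_of_isCoh (k := k) hC hA hS hQ
    haveI := CurvLib.finite_HH (k := k) hQ 0
    have hTc := (CurvLib.finite_isClosed_of_dim_le_zero U.isOpen.isClosed_compl hTd).2
    have hfin := fun x => CurvLib.finite_stalk (k := k) (cokernel g) hT hTc hsupp x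
    refine ⟨?_, hfin⟩
    rw [← CurvLib.euler_eq_sum_stalks (k := k) (cokernel g) hT U.isOpen.isClosed_compl hTd hsupp hfin]
    exact h
  obtain ⟨ha, hafin⟩ := hadd a' hF fun x hx hxU => notMem_support_cokernel a' x
    (fun s => let ⟨c, hc⟩ := (hon x hxU).1.2 s; ⟨ψ x c, hc⟩) hx
  obtain ⟨hb, hbfin⟩ := hadd η' hM fun x hx hxU => notMem_support_cokernel η' x (hon x hxU).2.2 hx
  have key : ∀ x ∈ hT.toFinset, (CurvLib.stalkDim k (cokernel a') x : ℤ) -
      CurvLib.stalkDim k (cokernel η') x = degTerm k x (G x).det (f x ^ n) := by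
    intro x hx
    obtain ⟨β, hβ, hαi, hηi, hf, hG, hv⟩ := hoff x (hT.mem_toFinset.mp hx)
    letI : Algebra k (X.presheaf.stalk x) := Curv2.stalkAlgebra k X x
    letI := CurvLib.stalkModule (k := k) S x
    haveI := tower_stalk k S x
    haveI : Ring.KrullDimLE 1 (X.presheaf.stalk x) := CurveAmpLib.krullDimLE_stalk hdim x
    letI := CurvLib.stalkModule (k := k) (cokernel a') x
    haveI := tower_stalk k (cokernel a') x
    letI := CurvLib.stalkModule (k := k) (cokernel η') x
    haveI := tower_stalk k (cokernel η') x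
    haveI := hafin x
    haveI := hbfin x
    obtain ⟨e₁⟩ := coker_equiv a' x (ψ x) (hψ x).2
    obtain ⟨e₂⟩ := coker_equiv η' x β hβ.2
    let α₂ := ((St x).map η').hom.comp β
    haveI : Module.Finite k ((St x).obj S ⧸ LinearMap.range (α x)) :=
      Module.Finite.equiv (e₁.restrictScalars k).symm
    haveI : Module.Finite k ((St x).obj S ⧸ LinearMap.range α₂) :=
      Module.Finite.equiv (e₂.restrictScalars k).symm
    have h := dim_sub (k := k) (α x) α₂ hαi (hηi.comp hβ.1) hf hG hv
    rw [(e₁.restrictScalars k).finrank_eq, (e₂.restrictScalars k).finrank_eq] at h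
    exact h
  rw [euler_freeMod] at ha
  rw [← Finset.sum_congr rfl key, Finset.sum_sub_distrib]
  push_cast at ha hb
  linarith

end DetDegLib
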