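import Mathlib.LinearAlgebra.Determinant
import Mathlib.LinearAlgebra.ExteriorPower.Basic

/-!
# The top exterior power of a free module
-/

set_option autoImplicit false
universe u v w

namespace DetDegLib

variable {R : Type u} [CommRing R] {M : Type v} [AddCommGroup M] [Module R M] {n : ℕ}

/-- An alternating map of top degree through the determinant of a basis. -/
theorem alt_eq {N : Type w} [AddCommGroup N] [Module R N] (B : Module.Basis (Fin n) R M)
    (f : M [⋀^Fin n]→ₗ[R] N) (v : Fin n → M) : f v = B.det v • f B := by
  have h : f = (LinearMap.toSpanSingleton R N (f B)).compAlternatingMap B.det := by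
    refine Module.Basis.ext_alternating B fun i hi => ?_
    let σ : Equiv.Perm (Fin n) := Equiv.ofBijective i (Finite.injective_iff_bijective.1 hi)
    change f (B ∘ σ) = B.det (B ∘ σ) • f B
    rw [f.map_perm, B.det.map_perm, B.det_self]
    simp
  conv_lhs => rw [h]
  rfl

theorem ιMulti_matrix (B : Module.Basis (Fin n) R M) (G : Matrix (Fin n) (Fin n) R) (v : Fin n → M)
    (h : ∀ j, v j = ∑ i, G i j • B i) :
    exteriorPower.ιMulti R n v = G.det • exteriorPower.ιMulti R n B := by
  rw [alt_eq B (exteriorPower.ιMulti R n) v, B.det_apply]
  congr 2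
  ext i j
  rw [Module.Basis.toMatrix_apply, h j]
  simp [Finsupp.single_apply]

theorem bijective_smul_ιMulti (b : Fin n → M)
    (hb : Function.Bijective fun c : Fin n → R => ∑ i, c i • b i) :
    Function.Bijective fun c : R => c • exteriorPower.ιMulti R n b := by
  classical
  let B : Module.Basis (Fin n) R M :=
    Module.Basis.ofEquivFun (LinearEquiv.ofBijective (Fintype.linearCombination R b) hb).symm
  have hB : ⇑B = b := funext fun i => by simp [B]
  rw [← hB]
  let lf := exteriorPower.alternatingMapLinearEquiv B.det
  have hlf : ∀ v, lf (exteriorPower.ιMulti R n v) = B.det v :=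
    exteriorPower.alternatingMapLinearEquiv_apply_ιMulti _
  have hall : LinearMap.id = (LinearMap.toSpanSingleton R (⋀[R]^n M) (exteriorPower.ιMulti R n B)).comp lf := by
    refine exteriorPower.linearMap_ext (AlternatingMap.ext fun v => ?_)
    change exteriorPower.ιMulti R n v = lf (exteriorPower.ιMulti R n v) • exteriorPower.ιMulti R n B
    rw [hlf]
    exact alt_eq B _ v
  refine ⟨fun c d h => ?_, fun z => ⟨lf z, (LinearMap.congr_fun hall z).symm⟩⟩
  have := congrArg lf h
  simpa [hlf, B.det_self] using this

end DetDegLib
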