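import Groth.Agent.DetDegLib.Euler
import Groth.Agent.DetDegLib.Wedge
import Groth.Agent.CurveAmpLib.FiniteSet
import Groth.Agent.IntMultLib.Dim0
import Groth.Agent.CurvLib.Divisor
import Groth.Agent.TwistLib.PullGen
import Groth.Agent.TwistLib.Basic
import Groth.Prelude.Def_ExtPow2

/-!
# The degree of a locally free module is the degree of its determinant
-/

set_option autoImplicit false
set_option linter.style.haveILetI false
universe u

open CategoryTheory CategoryTheory.Limits AlgebraicGeometry TopologicalSpace Opposite DevissLib QCohLib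

noncomputable section

namespace DetDegLib

variable {k : Type u} [Field k] {X : Scheme.{u}} [X.Over (Spec (CommRingCat.of k))]
  [IsProper (X ↘ Spec (CommRingCat.of k))] {n : ℕ} {E : X.Modules} (hE : FlatMod.IsFinLocFreeOfRank n E)

include hE k in
theorem exists_good_affine (x : X) : ∃ (V : X.affineOpens) (_ : x ∈ V.1) (b : Fin n → Γ(E, V.1)),
    ∀ (y : X) (hy : y ∈ V.1), FrameAt E b hy := by
  haveI := CurvLib.isNoetherian k (X := X)
  obtain ⟨V, hV, hxV⟩ := QCohLib.exists_affine_nhd x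
  obtain ⟨b, hb⟩ := exists_frame_at hE hV hxV
  obtain ⟨h, hxh, hh⟩ := exists_frame_basicOpen hE hV b hxV hb
  exact ⟨⟨X.basicOpen h, hV.basicOpen h⟩, hxh, _, fun y hy =>
    (frameAt_res (X.basicOpen_le h) b hy).mpr (hh y hy)⟩

include k hE in
/-- A frame on an affine open containing the associated points, with finite complement. -/
theorem exists_setup (hdim : topologicalKrullDim X ≤ 1) :
    ∃ (U : X.affineOpens) (e : Fin n → Γ(E, U.1)),
      (∀ (y : X) (hy : y ∈ U.1), FrameAt E e hy) ∧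
      (∀ y : X, Curv2.IsWeakAssPoint (Coh.structureModule X) y → y ∈ U.1) ∧
      ((U.1 : Set X)ᶜ).Finite ∧ topologicalKrullDim ↥((U.1 : Set X)ᶜ) ≤ 0 := by
  classical
  haveI := CurvLib.isNoetherian k (X := X)
  haveI : X.IsSeparated := ⟨by rw [← terminal.comp_from (X ↘ Spec (CommRingCat.of k))]; infer_instance⟩
  haveI : Coh.IsQCoh (Coh.structureModule X) := QCohLib.isQCoh_unit
  haveI : Coh.IsQCoh E := (CurvLib.isCoh_of_locFree hE).1
  let A : Set X := {y | y ∈ (⊤ : X.Opens) ∧ Curv2.IsWeakAssPoint (Coh.structureModule X) y}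
  have hA : A.Finite := AssPointLib.finite_assPoints (DevissLib.isCoh_structureModule X).2 ⊤ isCompact_univ
  have hcl : ∀ y : X, ∃ c : X, y ⤳ c ∧ IsClosed ({c} : Set X) := fun y => by
    obtain ⟨c, hc, hc'⟩ := IsClosed.exists_closed_singleton (isClosed_closure (s := ({y} : Set X)))
      ⟨y, subset_closure rfl⟩
    exact ⟨c, specializes_iff_mem_closure.mpr hc, hc'⟩
  choose cl hycl hclosed using hcl
  let S : Finset X := hA.toFinset.image cl
  have hS : ∀ s ∈ S, IsClosed ({s} : Set X) := fun s hs => by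
    obtain ⟨y, -, rfl⟩ := Finset.mem_image.mp hs
    exact hclosed y
  obtain ⟨U₀, hU₀, hSU⟩ := CurveAmpLib.exists_affine_of_finite hdim (S : Set X) S.finite_toSet
  let pr : S → Ideal Γ(X, U₀) := fun s => (hU₀.primeIdealOf ⟨s.1, hSU s.2⟩).asIdeal
  have hpr : ∀ s t : S, s ≠ t → ∃ c, c ∈ pr t ∧ c ∉ pr s := by
    intro s t hst
    by_contra hcon
    push Not at hcon
    have hm : (pr t).IsMaximal := hU₀.primeIdealOf_isMaximal_of_isClosed ⟨t.1, hSU t.2⟩ (hS t.1 t.2)
    have he : pr t = pr s := hm.eq_of_le (hU₀.primeIdealOf ⟨s.1, hSU s.2⟩).2.ne_top hcon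
    apply hst
    have h1 := congrArg hU₀.fromSpec (PrimeSpectrum.ext he)
    rw [hU₀.fromSpec_primeIdealOf, hU₀.fromSpec_primeIdealOf] at h1
    exact Subtype.ext h1.symm
  choose c hct hcs using hpr
  let a : S → Γ(X, U₀) := fun s => ∏ t : S, if h : s ≠ t then c s t h else 1
  have ha : ∀ s, a s ∉ pr s := fun s hs => by
    obtain ⟨t, -, ht⟩ := (hU₀.primeIdealOf ⟨s.1, hSU s.2⟩).2.prod_mem_iff.mp hs
    by_cases h : s ≠ t
    · rw [dif_pos h] at ht; exact hcs s t h ht
    · rw [dif_neg h] at ht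
      exact (hU₀.primeIdealOf ⟨s.1, hSU s.2⟩).2.ne_top ((Ideal.eq_top_iff_one _).mpr ht)
  have ha' : ∀ s t : S, s ≠ t → a s ∈ pr t := fun s t hst =>
    (hU₀.primeIdealOf ⟨t.1, hSU t.2⟩).2.prod_mem_iff.mpr ⟨t, Finset.mem_univ t, by
      rw [dif_pos hst]; exact hct s t hst⟩
  choose b hb using fun s : S => exists_frame_at hE hU₀ (hSU s.2)
  let e₀ : Fin n → Γ(E, U₀) := fun i => ∑ s : S, a s • b s i
  -- `e₀` is a frame at every point of `S`
  have he₀ : ∀ t : S, FrameAt E e₀ (hSU t.2) := by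
    intro t
    let R := X.presheaf.stalk t.1
    let γ : Γ(X, U₀) →+* R := (X.presheaf.germ U₀ t.1 (hSU t.2)).hom
    choose M hM using fun (s : S) (j : Fin n) => (hb t).2 (gm E t.1 (hSU t.2) (b s j))
    let G : Matrix (Fin n) (Fin n) R := Matrix.of fun i j => ∑ s : S, γ (a s) * M s j i
    refine frameAt_of_matrix (b t) e₀ (hSU t.2) G (fun j => ?_) (hb t) ?_
    · have h1 : gm E t.1 (hSU t.2) (e₀ j) = ∑ s : S, γ (a s) • gm E t.1 (hSU t.2) (b s j) := by
        refine (map_sum (E.presheaf.germ U₀ t.1 (hSU t.2)).hom _ _).trans (Finset.sum_congr rfl fun s _ => ?_)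
        exact gm_smul E t.1 (hSU t.2) (a s) (b s j)
      rw [h1]
      refine ((Finset.sum_congr rfl fun s _ => (congrArg (γ (a s) • ·) (hM s j).symm).trans
        (Finset.smul_sum.trans (Finset.sum_congr rfl fun i _ => smul_smul _ _ _))).trans
        Finset.sum_comm).trans ?_
      exact Finset.sum_congr rfl fun i _ => Finset.sum_smul.symm
    · refine (IsLocalRing.notMem_maximalIdeal).mp fun hd => ?_
      let π := IsLocalRing.residue R
      have h0 : π G.det = 0 := (IsLocalRing.residue_eq_zero_iff _).mpr hd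
      have hπ : ∀ s, s ≠ t → π (γ (a s)) = 0 := fun s hs =>
        (IsLocalRing.residue_eq_zero_iff _).mpr (AssPointLib.germ_mem_maximal hU₀ (hSU t.2) (ha' s t hs))
      have hMt : ∀ i j, M t j i = if i = j then 1 else 0 := fun i j => by
        have h2 := congrFun ((hb t).1 (a₁ := M t j) (a₂ := Pi.single j 1) ((hM t j).trans (by
          simp [Pi.single_apply]))) i
        rw [h2, Pi.single_apply]
      have hG : G.map π = π (γ (a t)) • (1 : Matrix (Fin n) (Fin n) _) := by
        ext i j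
        simp only [Matrix.map_apply, G, Matrix.of_apply, map_sum, map_mul, Matrix.smul_apply, smul_eq_mul]
        rw [Finset.sum_eq_single t (fun s _ hs => by rw [hπ s hs, zero_mul])
          (fun h => absurd (Finset.mem_univ t) h), hMt, Matrix.one_apply]
        split_ifs <;> simp
      rw [RingHom.map_det, RingHom.mapMatrix_apply, hG, Matrix.det_smul, Matrix.det_one, mul_one,
        Fintype.card_fin] at h0
      exact (((AssPointLib.isUnit_germ hU₀ (hSU t.2) (ha t)).map π).pow n).ne_zero h0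
  choose h hxh hfr using fun t : S => exists_frame_basicOpen hE hU₀ e₀ (hSU t.2) (he₀ t)
  let g : Γ(X, U₀) := ∑ t : S, a t * h t
  have hgS : ∀ t : S, t.1 ∈ X.basicOpen g := fun t => by
    refine (AssPointLib.mem_basicOpen_iff hU₀ (hSU t.2) g).mpr fun hg => ?_
    have h1 : a t * h t ∈ pr t := by
      have : (∑ s ∈ Finset.univ.erase t, a s * h s) ∈ pr t :=
        Ideal.sum_mem _ fun s hs => Ideal.mul_mem_right _ _ (ha' s t (Finset.ne_of_mem_erase hs))
      have h2 := Ideal.sub_mem _ hg this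
      rwa [show g = a t * h t + ∑ s ∈ Finset.univ.erase t, a s * h s from
        (Finset.add_sum_erase _ _ (Finset.mem_univ t)).symm, add_sub_cancel_right] at h2
    rcases (hU₀.primeIdealOf ⟨t.1, hSU t.2⟩).2.mem_or_mem h1 with h2 | h2
    · exact ha t h2
    · exact (AssPointLib.mem_basicOpen_iff hU₀ (hSU t.2) (h t)).mp (hxh t) h2
  have hass : ∀ y : X, Curv2.IsWeakAssPoint (Coh.structureModule X) y → y ∈ X.basicOpen g := fun y hy =>
    (hycl y).mem_open (X.basicOpen g).isOpen
      (hgS ⟨cl y, Finset.mem_image.mpr ⟨y, hA.mem_toFinset.mpr ⟨trivial, hy⟩, rfl⟩⟩)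
  have hfrg : ∀ (y : X) (hy : y ∈ X.basicOpen g), FrameAt E e₀ (X.basicOpen_le g hy) := by
    intro y hy
    have hyU := X.basicOpen_le g hy
    obtain ⟨t, ht⟩ : ∃ t : S, h t ∉ (hU₀.primeIdealOf ⟨y, hyU⟩).asIdeal := by
      by_contra hcon
      push Not at hcon
      exact (AssPointLib.mem_basicOpen_iff hU₀ hyU g).mp hy
        (Ideal.sum_mem _ fun t _ => Ideal.mul_mem_left _ _ (hcon t))
    exact hfr t y ((AssPointLib.mem_basicOpen_iff hU₀ hyU (h t)).mpr ht)
  have hTd : topologicalKrullDim ↥((X.basicOpen g : Set X)ᶜ) ≤ 0 := by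
    refine CurvLib.dim_le_zero_of_no_maximal hdim (X.basicOpen g).isOpen.isClosed_compl fun x hx => ?_
    obtain ⟨η, hη⟩ := QuasiSober.sober (isIrreducible_irreducibleComponent (x := x))
      isClosed_irreducibleComponent
    have hηw : Curv2.IsWeakAssPoint (Coh.structureModule X) η := by
      refine AssPointLib.weak_of_maximal ?_ fun y _ hy => ?_
      · rw [IntMultLib.support_structureModule']; exact Set.mem_univ η
      · have hi : IsIrreducible (closure ({y} : Set X)) := isIrreducible_singleton.closure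
        have hsub : irreducibleComponent x ⊆ closure {y} := by
          rw [← hη.def]
          exact closure_minimal (Set.singleton_subset_iff.mpr (specializes_iff_mem_closure.mp hy))
            isClosed_closure
        have he := eq_irreducibleComponent hi.2 hsub
        have hg : IsGenericPoint y (irreducibleComponent x) := he
        exact hg.eq hη
    refine ⟨η, hη.specializes mem_irreducibleComponent, fun he => hx ?_⟩
    rw [← he]
    exact hass η hηw
  exact ⟨⟨X.basicOpen g, hU₀.basicOpen g⟩, fun i => E.presheaf.map (homOfLE (X.basicOpen_le g)).op (e₀ i),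
    fun y hy => (frameAt_res (X.basicOpen_le g) e₀ hy).mpr (hfrg y hy), hass,
    (CurvLib.finite_isClosed_of_dim_le_zero (X.basicOpen g).isOpen.isClosed_compl hTd).1, hTd⟩

section Ext

variable {L : X.Modules}
  (φ : ∀ U : X.affineOpens, (L.val.obj (op U.1)) ≃ₗ[Γ(X, U.1)] ↥(⋀[Γ(X, U.1)]^n (E.val.obj (op U.1))))

/-- The wedge of a family of sections, as a section of the exterior power. -/
def wsec (U : X.affineOpens) (e : Fin n → Γ(E, U.1)) : Γ(L, U.1) :=
  (φ U).symm (exteriorPower.ιMulti Γ(X, U.1) n (M := E.val.obj (op U.1)) e)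

theorem wsec_bijective [Coh.IsQCoh E] (U : X.affineOpens) (e : Fin n → Γ(E, U.1))
    (he : ∀ (y : X) (hy : y ∈ U.1), FrameAt E e hy) :
    Function.Bijective fun c : Γ(X, U.1) => (c • wsec φ U e : Γ(L, U.1)) := by
  have h1 := bijective_smul_ιMulti (R := Γ(X, U.1)) (M := E.val.obj (op U.1)) e
    (frame_bijective U.2 e he)
  have h2 := (φ U).symm.bijective.comp h1
  exact (congrArg Function.Bijective (funext fun c => (map_smul (φ U).symm c _))).mp h2

theorem wsec_matrix [Coh.IsQCoh E] (U : X.affineOpens) (b e : Fin n → Γ(E, U.1))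
    (hb : ∀ (y : X) (hy : y ∈ U.1), FrameAt E b hy) (G : Matrix (Fin n) (Fin n) Γ(X, U.1))
    (h : ∀ j, e j = ∑ i, G i j • b i) :
    wsec φ U e = (G.det • wsec φ U b : Γ(L, U.1)) := by
  let B : Module.Basis (Fin n) Γ(X, U.1) (E.val.obj (op U.1)) :=
    Module.Basis.ofEquivFun (LinearEquiv.ofBijective
      (Fintype.linearCombination Γ(X, U.1) (M := E.val.obj (op U.1)) b) (frame_bijective U.2 b hb)).symm
  have hB : ⇑B = b := funext fun i => by
    simp [B, Module.Basis.coe_ofEquivFun, Fintype.linearCombination_apply_single]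
  have h1 := ιMulti_matrix B G e (fun j => by rw [hB]; exact h j)
  rw [hB] at h1
  exact (congrArg (φ U).symm h1).trans (map_smul (φ U).symm _ _)

variable (hφ : ∀ (U V : X.affineOpens) (h : V.1 ≤ U.1) (e : Fin n → E.val.obj (op U.1)),
  L.val.map (homOfLE h).op ((φ U).symm (exteriorPower.ιMulti _ n e)) =
    (φ V).symm (exteriorPower.ιMulti _ n (fun j => E.val.map (homOfLE h).op (e j))))

include hφ in
theorem wsec_res (U V : X.affineOpens) (h : V.1 ≤ U.1) (e : Fin n → Γ(E, U.1)) :
    L.presheaf.map (homOfLE h).op (wsec φ U e) =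
      wsec φ V (fun j => E.presheaf.map (homOfLE h).op (e j)) :=
  hφ U V h e

include hφ in
theorem frameAt_wsec [Coh.IsQCoh E] (U : X.affineOpens) (e : Fin n → Γ(E, U.1))
    (he : ∀ (y : X) (hy : y ∈ U.1), FrameAt E e hy) {y : X} (hy : y ∈ U.1) :
    AmpleLib.GenAt L (wsec φ U e) hy := by
  have hsub : ∀ (W : X.Opens), y ∈ W → ∃ (W' : X.affineOpens) (_ : W'.1 ≤ W) (h₂ : W'.1 ≤ U.1),
      y ∈ W'.1 ∧ Function.Bijective fun c : Γ(X, W'.1) =>
        (c • L.presheaf.map (homOfLE h₂).op (wsec φ U e) : Γ(L, W'.1)) := by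
    intro W hyW
    obtain ⟨h, hhW, hyh⟩ := QCohLib.exists_basicOpen_nhd U.2 hyW hy
    refine ⟨⟨X.basicOpen h, U.2.basicOpen h⟩, hhW, X.basicOpen_le h, hyh, ?_⟩
    rw [wsec_res φ hφ U ⟨X.basicOpen h, U.2.basicOpen h⟩ (X.basicOpen_le h) e]
    exact wsec_bijective φ _ _ fun z hz =>
      (frameAt_res (X.basicOpen_le h) e hz).mpr (he z _)
  constructor
  · intro c c' h
    rw [← sub_eq_zero]
    have h0 : (c - c') • gm L y hy (wsec φ U e) = 0 := (sub_smul c c' _).trans (sub_eq_zero.mpr h)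
    generalize c - c' = d at h0 ⊢
    obtain ⟨W, hyW, r, rfl⟩ := X.presheaf.exists_germ_eq (x := y) d
    obtain ⟨W₁, hW₁W, hW₁U, hyW₁, -⟩ := hsub W hyW
    let r₁ := X.presheaf.map (homOfLE hW₁W).op r
    have h1 : gm L y hyW₁ (r₁ • L.presheaf.map (homOfLE hW₁U).op (wsec φ U e)) = 0 := by
      rw [gm_smul, gm_map, TopCat.Presheaf.germ_res_apply]
      exact h0
    obtain ⟨W₂, hyW₂, i₁, i₂, hW₂⟩ := TopCat.Presheaf.germ_eq L.presheaf y hyW₁ hyW₁ _ 0
      (h1.trans (gm_zero L y hyW₁).symm)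
    rw [map_zero] at hW₂
    obtain ⟨W₃, hW₃W₂, hW₃U, hyW₃, hbij⟩ := hsub W₂ hyW₂
    have h3 := congrArg (L.presheaf.map (homOfLE hW₃W₂).op) hW₂
    rw [map_zero, map_map', QCohLib.map_smul', map_map'] at h3
    have h4 : X.presheaf.map ((homOfLE hW₃W₂) ≫ i₁).op r₁ = 0 := hbij.1 (by
      change _ • _ = (0 : Γ(X, W₃.1)) • _
      rw [zero_smul]
      exact h3)
    have h5 := congrArg (X.presheaf.germ W₃.1 y hyW₃) h4
    rw [map_zero, TopCat.Presheaf.germ_res_apply, TopCat.Presheaf.germ_res_apply] at h5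
    exact h5
  · intro a
    obtain ⟨W, hyW, t, rfl⟩ := exists_gm_eq L y a
    obtain ⟨W', hW'W, hW'U, hyW', hbij⟩ := hsub W hyW
    obtain ⟨c, hc⟩ := hbij.2 (L.presheaf.map (homOfLE hW'W).op t)
    refine ⟨X.presheaf.germ W'.1 y hyW' c, ?_⟩
    have h1 := congrArg (gm L y hyW') hc
    rw [gm_smul, gm_map, gm_map] at h1
    exact h1

omit φ in
theorem frameAt_one_iff {M : X.Modules} {U : X.Opens} (w : Γ(M, U)) {y : X} (hy : y ∈ U) :
    FrameAt (n := 1) M (fun _ => w) hy ↔ AmpleLib.GenAt M w hy := by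
  have h : (fun c : Fin 1 → X.presheaf.stalk y => (∑ i, c i • gm M y hy w : (St y).obj M)) =
      (fun c => c • gm M y hy w) ∘ (Equiv.funUnique (Fin 1) (X.presheaf.stalk y)) :=
    funext fun c => by simp
  exact (iff_of_eq (congrArg Function.Bijective h)).trans
    (Function.Bijective.of_comp_iff _ (Equiv.funUnique (Fin 1) _).bijective)

include hφ hE k in
theorem isCoh_extPow : Coh.IsCoh L := by
  haveI : Coh.IsQCoh E := (CurvLib.isCoh_of_locFree hE).1
  choose V hV b hb using exists_good_affine (k := k) hE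
  exact CurvLib.isCoh_of_isInvertible (TwistLib.isInvertible_of_genOn (fun x : X => (V x).1)
    (fun x => ⟨x, hV x⟩) (fun x => wsec φ (V x) (b x)) fun x =>
      TwistLib.genOn_of_genAt fun _ hy => frameAt_wsec φ hφ (V x) (b x) (hb x) hy)

include k hE hφ in
/-- The local data at a point outside the frame. -/
theorem exists_datum (U : X.affineOpens) (e : Fin n → Γ(E, U.1))
    (he : ∀ (y : X) (hy : y ∈ U.1), FrameAt E e hy)
    (hass : ∀ y : X, Curv2.IsWeakAssPoint (Coh.structureModule X) y → y ∈ U.1) (x : X) :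
    ∃ (f : X.presheaf.stalk x) (G : Matrix (Fin n) (Fin n) (X.presheaf.stalk x)),
      f ∈ nonZeroDivisors _ ∧ G.det ∈ nonZeroDivisors _ ∧
      (∃ b : Fin n → (St x).obj E,
        Function.Bijective (fun c : Fin n → X.presheaf.stalk x => ∑ i, c i • b i) ∧
        Function.Injective ((St x).map (eta U.1 E)).hom ∧
        ∀ j, f • gm (Pu U.1 E) x (show x ∈ (⊤ : X.Opens) from trivial) (eP (e j)) =
          ∑ i, G i j • ((St x).map (eta U.1 E)).hom (b i)) ∧
      (∃ w : Fin 1 → (St x).obj L,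
        Function.Bijective (fun c : Fin 1 → X.presheaf.stalk x => ∑ i, c i • w i) ∧
        Function.Injective ((St x).map (eta U.1 L)).hom ∧
        f ^ n • gm (Pu U.1 L) x (show x ∈ (⊤ : X.Opens) from trivial) (eP (wsec φ U e)) =
          G.det • ((St x).map (eta U.1 L)).hom (w 0)) := by
  classical
  haveI := CurvLib.isNoetherian k (X := X)
  haveI : X.IsSeparated := ⟨by rw [← terminal.comp_from (X ↘ Spec (CommRingCat.of k))]; infer_instance⟩
  haveI : Coh.IsQCoh E := (CurvLib.isCoh_of_locFree hE).1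
  haveI : Coh.IsQCoh (Coh.structureModule X) := QCohLib.isQCoh_unit
  obtain ⟨V, hxV, b, hb⟩ := exists_good_affine (k := k) hE x
  obtain ⟨g, hg, hgU⟩ := exists_nzd V.2 U.1 fun y _ hy => hass y hy
  let W : X.affineOpens := ⟨V.1 ⊓ U.1, V.2.inf U.2⟩
  have hgW : X.basicOpen g ≤ W.1 := le_inf (X.basicOpen_le g) hgU
  have hWV : W.1 ≤ V.1 := inf_le_left
  have hWU : W.1 ≤ U.1 := inf_le_right
  let eW : Fin n → Γ(E, W.1) := fun j => E.presheaf.map (homOfLE hWU).op (e j)
  let bW : Fin n → Γ(E, W.1) := fun j => E.presheaf.map (homOfLE hWV).op (b j)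
  have hbW : ∀ (y : X) (hy : y ∈ W.1), FrameAt E bW hy := fun y hy =>
    (frameAt_res hWV b hy).mpr (hb y _)
  have heW : ∀ (y : X) (hy : y ∈ W.1), FrameAt E eW hy := fun y hy =>
    (frameAt_res hWU e hy).mpr (he y _)
  choose C hC using fun j => (frame_bijective W.2 bW hbW).2 (eW j)
  let G' : Matrix (Fin n) (Fin n) Γ(X, W.1) := Matrix.of fun i j => C j i
  have hG' : ∀ j, eW j = ∑ i, G' i j • bW i := fun j => (hC j).symm
  have hG'u : IsUnit G'.det := by
    refine (Matrix.isUnit_iff_isUnit_det G').mp (Matrix.mulVec_surjective_iff_isUnit.mp fun d => ?_)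
    obtain ⟨c, hc⟩ := (frame_bijective W.2 eW heW).2 (∑ i, d i • bW i)
    exact ⟨c, (frame_bijective W.2 bW hbW).1 ((comb_mulVec bW eW G' hG' c).symm.trans hc)⟩
  choose Ns ts hts using fun i j => exists_lift (M := Coh.structureModule X) V.2 W.2 hWV g hgW (G' i j)
  let N := ∑ i, ∑ j, Ns i j
  let ρ : Γ(X, V.1) →+* Γ(X, W.1) := (X.presheaf.map (homOfLE hWV).op).hom
  let H : Matrix (Fin n) (Fin n) Γ(X, V.1) := Matrix.of fun i j => g ^ (N - Ns i j) * (show Γ(X, V.1) from ts i j)
  have hH : H.map ρ = ρ g ^ N • G' := by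
    ext i j
    have hle : Ns i j ≤ N :=
      (Finset.single_le_sum (fun j _ => Nat.zero_le (Ns i j)) (Finset.mem_univ j)).trans
        (Finset.single_le_sum (f := fun i => ∑ j, Ns i j) (fun i _ => Nat.zero_le _) (Finset.mem_univ i))
    simp only [Matrix.map_apply, H, Matrix.of_apply, map_mul, map_pow, Matrix.smul_apply, smul_eq_mul]
    have : ρ (ts i j) = ρ g ^ (Ns i j) * G' i j := hts i j
    rw [this, ← mul_assoc, ← pow_add, Nat.sub_add_cancel hle]
  have hdet : ρ H.det = (ρ g ^ N) ^ n * G'.det := by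
    rw [RingHom.map_det, RingHom.mapMatrix_apply, hH, Matrix.det_smul, Fintype.card_fin]
  have hHd : H.det ∈ nonZeroDivisors Γ(X, V.1) := by
    refine mem_nonZeroDivisors_iff_right.mpr fun c hc => ?_
    have h1 : ρ c * (ρ g ^ N) ^ n = 0 := by
      have h2 := congrArg ρ hc
      rw [map_mul, map_zero, hdet, ← mul_assoc] at h2
      exact hG'u.mul_left_eq_zero.mp h2
    have h2 : c * (g ^ N) ^ n = 0 := res_injective V.2 hWV hg hgW (by
      change ρ _ = ρ 0
      rw [map_mul, map_pow, map_pow, map_zero]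
      exact h1)
    exact mem_nonZeroDivisors_iff_right.mp (pow_mem (pow_mem hg N) n) c h2
  let γ : Γ(X, V.1) →+* X.presheaf.stalk x := (X.presheaf.germ V.1 x hxV).hom
  have hdγ : (H.map γ).det = γ H.det := (RingHom.map_det γ H).symm
  refine ⟨γ (g ^ N), H.map γ, germ_nzd V.2 hxV (pow_mem hg N), hdγ ▸ germ_nzd V.2 hxV hHd,
    ⟨fun i => gm E x hxV (b i), hb x hxV, eta_injective V.2 b hb hg hgU hxV, fun j => ?_⟩,
    ⟨fun _ => gm L x hxV (wsec φ V b), (frameAt_one_iff (wsec φ V b) hxV).mpr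
        (frameAt_wsec φ hφ V b hb hxV),
      eta_injective (n := 1) V.2 (fun _ => wsec φ V b)
        (fun y hy => (frameAt_one_iff (wsec φ V b) hy).mpr (frameAt_wsec φ hφ V b hb hy)) hg hgU hxV, ?_⟩⟩
  · have hz : X.presheaf.map (homOfLE hWV).op (g ^ N) • eW j =
        E.presheaf.map (homOfLE hWV).op (∑ i, H i j • b i) := by
      rw [map_sum, hG', Finset.smul_sum]
      refine Finset.sum_congr rfl fun i _ => ?_
      rw [QCohLib.map_smul', smul_smul]
      refine congrArg (· • bW i) ?_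
      rw [map_pow]
      exact (congrFun (congrFun hH i) j).symm
    refine (gm_rel hxV (g ^ N) (e j) (∑ i, H i j • b i) hz).trans ?_
    rw [gm_combo E b hxV, map_sum]
    exact Finset.sum_congr rfl fun i _ => map_smul _ _ _
  · have hz : X.presheaf.map (homOfLE hWV).op ((g ^ N) ^ n) • L.presheaf.map (homOfLE hWU).op (wsec φ U e) =
        L.presheaf.map (homOfLE hWV).op (H.det • wsec φ V b) := by
      rw [QCohLib.map_smul', wsec_res φ hφ U W hWU e, wsec_res φ hφ V W hWV b,
        wsec_matrix φ W bW eW hbW G' hG', smul_smul]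
      refine congrArg (· • wsec φ W bW) ?_
      rw [map_pow, map_pow]
      exact hdet.symm
    rw [hdγ]
    refine (congrArg (· • gm (Pu U.1 L) x _ (eP (wsec φ U e))) (map_pow γ (g ^ N) n).symm).trans ?_
    refine (gm_rel hxV ((g ^ N) ^ n) (wsec φ U e) (H.det • wsec φ V b) hz).trans ?_
    rw [gm_smul, map_smul]

end Ext

include hE in
theorem deg_eq_deg_extPow (hdim : topologicalKrullDim X ≤ 1) {L : X.Modules}
    (hL : ExtPow.IsExtPow n E L) : Curv2.deg k X E n = Curv2.deg k X L 1 := by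
  classical
  haveI := CurvLib.isNoetherian k (X := X)
  haveI : Coh.IsQCoh E := (CurvLib.isCoh_of_locFree hE).1
  obtain ⟨φ, hφ⟩ := hL
  obtain ⟨U, e, he, hass, hT, hTd⟩ := exists_setup (k := k) hE hdim
  choose f G hf hG hdE hdL using exists_datum (k := k) hE φ hφ U e he hass
  have h1 := euler_frame k hdim (CurvLib.isCoh_of_locFree hE) e hT hTd he f G fun x _ => by
    obtain ⟨b, hb, hη, hrel⟩ := hdE x
    exact ⟨b, hb, hf x, hG x, hη, hrel⟩
  have h2 := euler_frame (n := 1) k hdim (isCoh_extPow (k := k) hE φ hφ) (fun _ => wsec φ U e) hT hTd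
    (fun y hy => (frameAt_one_iff (wsec φ U e) hy).mpr (frameAt_wsec φ hφ U e he hy))
    (fun x => f x ^ n) (fun x => Matrix.of fun _ _ => (G x).det) fun x _ => by
      obtain ⟨w, hw, hη, hrel⟩ := hdL x
      refine ⟨w, hw, pow_mem (hf x) n, by simpa [Matrix.det_fin_one] using hG x, hη, fun j => ?_⟩
      rw [Fin.sum_univ_one]
      exact hrel
  rw [Curv2.deg, Curv2.deg, h1, h2]
  simp [Matrix.det_fin_one]

end DetDegLib
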