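import Groth.Agent.CurvLib.EulerTensor
import Groth.Agent.AssPointLib.Basic
import Mathlib.RingTheory.OrzechProperty

/-!
# Frames of modules, stalkwise
-/

set_option autoImplicit false
set_option linter.style.haveILetI false
universe u

open CategoryTheory CategoryTheory.Limits AlgebraicGeometry TopologicalSpace Opposite DevissLib QCohLib

namespace DetDegLib

variable {X : Scheme.{u}} {n : ℕ}

/-- The sections `e` form a basis of the stalk at `x`. -/
def FrameAt (M : X.Modules) {U : X.Opens} (e : Fin n → Γ(M, U)) {x : X} (hx : x ∈ U) : Prop :=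
  Function.Bijective fun c : Fin n → X.presheaf.stalk x =>
    (∑ i, c i • gm M x hx (e i) : (St x).obj M)

theorem gm_combo (M : X.Modules) {U : X.Opens} (e : Fin n → Γ(M, U)) {x : X} (hx : x ∈ U)
    (c : Fin n → Γ(X, U)) :
    gm M x hx (∑ i, c i • e i) = ∑ i, X.presheaf.germ U x hx (c i) • gm M x hx (e i) := by
  refine (map_sum (M.presheaf.germ U x hx).hom _ _).trans (Finset.sum_congr rfl fun i _ => ?_)
  exact gm_smul M x hx (c i) (e i)

theorem frameAt_res {M : X.Modules} {U V : X.Opens} (h : V ≤ U) (e : Fin n → Γ(M, U)) {x : X}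
    (hx : x ∈ V) :
    FrameAt M (fun i => M.presheaf.map (homOfLE h).op (e i)) hx ↔ FrameAt M e (h hx) := by
  have : (fun c : Fin n → X.presheaf.stalk x =>
      (∑ i, c i • gm M x hx (M.presheaf.map (homOfLE h).op (e i)) : (St x).obj M)) =
      fun c => ∑ i, c i • gm M x (h hx) (e i) :=
    funext fun c => Finset.sum_congr rfl fun i _ => congrArg (c i • ·) (gm_map M h x hx (e i))
  exact iff_of_eq (congrArg Function.Bijective this)

/-- Combinations after a change of frame. -/
theorem comb_mulVec {R N : Type*} [CommRing R] [AddCommGroup N] [Module R N] (v v' : Fin n → N)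
    (G : Matrix (Fin n) (Fin n) R) (h : ∀ j, v' j = ∑ i, G i j • v i) (c : Fin n → R) :
    ∑ j, c j • v' j = ∑ i, (G.mulVec c) i • v i := by
  simp only [h, Finset.smul_sum, smul_smul, Matrix.mulVec, dotProduct, Finset.sum_smul]
  rw [Finset.sum_comm]
  exact Finset.sum_congr rfl fun i _ => Finset.sum_congr rfl fun j _ => by rw [mul_comm]

theorem frameAt_of_matrix {M : X.Modules} {U : X.Opens} (b e : Fin n → Γ(M, U)) {x : X} (hx : x ∈ U)
    (G : Matrix (Fin n) (Fin n) (X.presheaf.stalk x))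
    (h : ∀ j, gm M x hx (e j) = ∑ i, G i j • gm M x hx (b i)) (hb : FrameAt M b hx)
    (hG : IsUnit G.det) : FrameAt M e hx := by
  have hbij : Function.Bijective G.mulVec :=
    have hu := (Matrix.isUnit_iff_isUnit_det G).mpr hG
    ⟨Matrix.mulVec_injective_of_isUnit hu, Matrix.mulVec_surjective_iff_isUnit.mpr hu⟩
  have := hb.comp hbij
  exact (congrArg Function.Bijective (funext fun c =>
    comb_mulVec (fun i => gm M x hx (b i)) (fun i => gm M x hx (e i)) G h c)).mpr this

/-- Denominators for sections in a frame. -/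
theorem exists_denom {M : X.Modules} [Coh.IsQCoh M] {U : X.Opens} (hU : IsAffineOpen U)
    (e : Fin n → Γ(M, U)) {x : X} (hx : x ∈ U) (he : FrameAt M e hx) (t : Γ(M, U)) :
    ∃ r : Γ(X, U), r ∉ (hU.primeIdealOf ⟨x, hx⟩).asIdeal ∧
      r • t ∈ Submodule.span Γ(X, U) (Set.range e) := by
  obtain ⟨c, hc⟩ := he.2 (gm M x hx t)
  let p := (hU.primeIdealOf ⟨x, hx⟩).asIdeal
  letI := X.presheaf.algebra_section_stalk (⟨x, hx⟩ : U)
  haveI : IsLocalization.AtPrime (X.presheaf.stalk x) p := hU.isLocalization_stalk ⟨x, hx⟩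
  obtain ⟨b, hb⟩ := IsLocalization.exist_integer_multiples_of_finite p.primeCompl c
  choose a ha using hb
  have ha' : ∀ i, X.presheaf.germ U x hx (a i) = X.presheaf.germ U x hx (b : Γ(X, U)) * c i := fun i =>
    (ha i).trans (Algebra.smul_def _ _)
  have h0 : gm M x hx ((b : Γ(X, U)) • t - ∑ i, a i • e i) = 0 := by
    refine (map_sub (M.presheaf.germ U x hx).hom _ _).trans (sub_eq_zero.mpr ?_)
    refine (gm_smul M x hx _ t).trans (Eq.trans ?_ (gm_combo M e hx a).symm)
    rw [← hc, Finset.smul_sum]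
    exact Finset.sum_congr rfl fun i _ => by rw [ha', mul_smul]
  obtain ⟨r, hr, hrs⟩ := (gm_eq_zero_iff hU x hx _).mp h0
  refine ⟨r * b, fun h => ((hU.primeIdealOf ⟨x, hx⟩).2.mem_or_mem h).elim hr b.2, ?_⟩
  rw [smul_sub, sub_eq_zero, smul_smul] at hrs
  rw [hrs]
  exact Submodule.smul_mem _ _ (Submodule.sum_mem _ fun i _ =>
    Submodule.smul_mem _ _ (Submodule.subset_span ⟨i, rfl⟩))

/-- A frame on an affine open is a basis of sections. -/
theorem frame_bijective {M : X.Modules} [Coh.IsQCoh M] {U : X.Opens} (hU : IsAffineOpen U)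
    (e : Fin n → Γ(M, U)) (he : ∀ (x : X) (hx : x ∈ U), FrameAt M e hx) :
    Function.Bijective fun c : Fin n → Γ(X, U) => ∑ i, c i • e i := by
  constructor
  · intro c c' h
    funext i
    refine TopCat.Presheaf.section_ext X.sheaf U _ _ fun x hx => ?_
    exact congrFun ((he x hx).1 (((gm_combo M e hx c).symm.trans
      (congrArg (gm M x hx) h)).trans (gm_combo M e hx c'))) i
  · intro t
    suffices t ∈ Submodule.span Γ(X, U) (Set.range e) from
      (Submodule.mem_span_range_iff_exists_fun _).mp this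
    let I : Ideal Γ(X, U) :=
      (Submodule.span Γ(X, U) (Set.range e)).comap (LinearMap.toSpanSingleton Γ(X, U) _ t)
    by_contra ht
    have hI : I ≠ ⊤ := fun h => ht (by
      have : (1 : Γ(X, U)) ∈ I := h ▸ trivial
      simpa [I] using this)
    obtain ⟨m, hm, hIm⟩ := I.exists_le_maximal hI
    let q : PrimeSpectrum Γ(X, U) := ⟨m, hm.isPrime⟩
    have hy : hU.fromSpec q ∈ U := by
      have : hU.fromSpec q ∈ Set.range hU.fromSpec := ⟨q, rfl⟩
      rwa [hU.range_fromSpec] at this
    have hpr : hU.primeIdealOf ⟨hU.fromSpec q, hy⟩ = q :=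
      hU.fromSpec.isOpenEmbedding.injective (hU.fromSpec_primeIdealOf ⟨_, hy⟩)
    obtain ⟨r, hr, hrt⟩ := exists_denom hU e hy (he _ hy) t
    rw [hpr] at hr
    exact hr (hIm hrt)

/-- Generation up to denominators gives a frame of a locally free module of the same rank. -/
theorem frameAt_of_denoms {M : X.Modules} (hM : FlatMod.IsFinLocFreeOfRank n M) {U : X.Opens}
    (hU : IsAffineOpen U) (e : Fin n → Γ(M, U)) {x : X} (hx : x ∈ U)
    (h : ∀ m : Γ(M, U), ∃ r : Γ(X, U), r ∉ (hU.primeIdealOf ⟨x, hx⟩).asIdeal ∧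
      r • m ∈ Submodule.span Γ(X, U) (Set.range e)) : FrameAt M e hx := by
  haveI : Coh.IsQCoh M := (CurvLib.isCoh_of_locFree hM).1
  obtain ⟨E⟩ := CurvLib.nonempty_stalk_pi_of_locFree hM x
  let R := X.presheaf.stalk x
  let Φ : (Fin n → R) →ₗ[R] (St x).obj M :=
    Fintype.linearCombination R (fun i => (gm M x hx (e i) : (St x).obj M))
  have hsurj : Function.Surjective Φ := fun a => by
    obtain ⟨v, s, hv, hs⟩ := AssPointLib.exists_smul_eq_gm hU hx a
    obtain ⟨r, hr, hrs⟩ := h s
    obtain ⟨c, hc⟩ := (Submodule.mem_span_range_iff_exists_fun _).mp hrs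
    obtain ⟨w, hw⟩ := ((AssPointLib.isUnit_germ hU hx hr).mul hv).exists_left_inv
    refine ⟨w • fun i => X.presheaf.germ U x hx (c i), ?_⟩
    rw [map_smul]
    have h1 : Φ (fun i => X.presheaf.germ U x hx (c i)) = (X.presheaf.germ U x hx r * v) • a := by
      refine (gm_combo M e hx c).symm.trans ?_
      rw [hc]
      refine (gm_smul M x hx r s).trans ?_
      rw [← hs, smul_smul]
    rw [h1, smul_smul]
    exact (congrArg (· • a) hw).trans (one_smul _ a)
  have hb : Function.Bijective (E.toLinearMap.comp Φ) :=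
    OrzechProperty.bijective_of_surjective_endomorphism _ (E.surjective.comp hsurj)
  exact (Function.Bijective.of_comp_iff' E.bijective Φ).mp hb

theorem exists_frame_at {M : X.Modules} (hM : FlatMod.IsFinLocFreeOfRank n M) {V : X.Opens}
    (hV : IsAffineOpen V) {x : X} (hx : x ∈ V) : ∃ b : Fin n → Γ(M, V), FrameAt M b hx := by
  haveI : Coh.IsQCoh M := (CurvLib.isCoh_of_locFree hM).1
  classical
  obtain ⟨E⟩ := CurvLib.nonempty_stalk_pi_of_locFree hM x
  let v : Fin n → (St x).obj M := fun i => E.symm (Pi.single i 1)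
  choose w s hw hs using fun i => AssPointLib.exists_smul_eq_gm hV hx (v i)
  refine ⟨s, ?_⟩
  have h1 : (fun c : Fin n → X.presheaf.stalk x => (∑ i, c i • gm M x hx (s i) : (St x).obj M)) =
      fun c => E.symm (fun i => c i * w i) := by
    funext c
    simp only [← hs, smul_smul, v, ← map_smul, ← map_sum]
    congr 1
    funext j
    simp [Pi.single_apply]
  refine (congrArg Function.Bijective h1).mpr (E.symm.bijective.comp ⟨fun c c' h => funext fun i => ?_,
    fun d => ⟨fun i => d i * ((hw i).unit⁻¹ : (X.presheaf.stalk x)ˣ), funext fun i => ?_⟩⟩)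
  · exact (hw i).mul_right_cancel (congrFun h i)
  · simp [mul_assoc]

/-- Frames spread out. -/
theorem exists_frame_basicOpen [IsLocallyNoetherian X] {M : X.Modules}
    (hM : FlatMod.IsFinLocFreeOfRank n M) {V : X.Opens} (hV : IsAffineOpen V) (e : Fin n → Γ(M, V))
    {x : X} (hx : x ∈ V) (he : FrameAt M e hx) :
    ∃ h : Γ(X, V), x ∈ X.basicOpen h ∧
      ∀ (y : X) (hy : y ∈ X.basicOpen h), FrameAt M e (X.basicOpen_le h hy) := by
  have hC := CurvLib.isCoh_of_locFree hM
  haveI : Coh.IsQCoh M := hC.1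
  haveI : Module.Finite Γ(X, V) Γ(M, V) := QCohLib.finite_of_isFT hC.2 hV
  obtain ⟨N, g, hg⟩ := Module.Finite.exists_fin (R := Γ(X, V)) (M := Γ(M, V))
  choose r hr hrg using fun k => exists_denom hV e hx he (g k)
  let h := ∏ k, r k
  let S := Submodule.span Γ(X, V) (Set.range e)
  have hall : ∀ m : Γ(M, V), h • m ∈ S := by
    have : (⊤ : Submodule Γ(X, V) Γ(M, V)) ≤ S.comap (LinearMap.lsmul Γ(X, V) Γ(M, V) h) := by
      rw [← hg, Submodule.span_le]
      rintro _ ⟨k, rfl⟩
      change h • g k ∈ S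
      obtain ⟨q, hq⟩ : r k ∣ h := Finset.dvd_prod_of_mem r (Finset.mem_univ k)
      rw [hq, mul_comm, mul_smul]
      exact S.smul_mem q (hrg k)
    exact fun m => this (Submodule.mem_top : m ∈ (⊤ : Submodule Γ(X, V) Γ(M, V)))
  have hxh : x ∈ X.basicOpen h := (AssPointLib.mem_basicOpen_iff hV hx h).mpr fun hm => by
    obtain ⟨k, -, hk⟩ := (hV.primeIdealOf ⟨x, hx⟩).2.prod_mem_iff.mp hm
    exact hr k hk
  exact ⟨h, hxh, fun y hy => frameAt_of_denoms hM hV e (X.basicOpen_le h hy) fun m =>
    ⟨h, (AssPointLib.mem_basicOpen_iff hV _ h).mp hy, hall m⟩⟩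

end DetDegLib
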