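import Groth.Agent.S0612
import Mathlib.RingTheory.OrderOfVanishing.Basic
import Mathlib.RingTheory.SimpleModule.Basic

/-!
# Colengths of two lattices related by a matrix
-/

set_option autoImplicit false
set_option linter.style.haveILetI false
universe u v

namespace DetDegLib

section Tower

variable (k : Type u) {R : Type u} [Field k] [CommRing R] [IsLocalRing R] [Algebra k R]

/-- The degree of the residue field over the base, as a length. -/
noncomputable def resDeg (R : Type u) [CommRing R] [IsLocalRing R] [Algebra k R] : ℕ∞ :=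
  Module.length k (R ⧸ IsLocalRing.maximalIdeal R)

theorem length_tower {M : Type u} [AddCommGroup M] [Module R M] [Module k M] [IsScalarTower k R M]
    (hM : IsFiniteLength R M) : Module.length k M = Module.length R M * resDeg k R := by
  revert ‹Module k M›
  induction hM with
  | of_subsingleton => intro _ _; rw [Module.length_eq_zero, Module.length_eq_zero, zero_mul]
  | @of_simple_quotient M₀ _ _ N hS hN ih =>
    intro _ _
    obtain ⟨I, hI, ⟨e⟩⟩ := isSimpleModule_iff_quot_maximal.mp hS
    obtain rfl := IsLocalRing.eq_maximalIdeal hI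
    have h1 : Module.length k (M₀ ⧸ N) = resDeg k R := (e.restrictScalars k).length_eq
    have h2 : Module.length k M₀ = Module.length k N + Module.length k (M₀ ⧸ N) :=
      Module.length_eq_add_of_exact (N.subtype.restrictScalars k) (N.mkQ.restrictScalars k)
        N.injective_subtype N.mkQ_surjective (LinearMap.exact_subtype_mkQ N)
    have h3 : Module.length R M₀ = Module.length R N + Module.length R (M₀ ⧸ N) :=
      Module.length_eq_add_of_exact N.subtype N.mkQ N.injective_subtype N.mkQ_surjective
        (LinearMap.exact_subtype_mkQ N)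
    rw [h2, h3, h1, ih, Module.length_eq_one R (M₀ ⧸ N), add_mul, one_mul]

theorem finrank_tower {M : Type u} [AddCommGroup M] [Module R M] [Module k M] [IsScalarTower k R M]
    [Module.Finite k M] :
    IsFiniteLength R M ∧ Module.finrank k M = (Module.length R M).toNat * (resDeg k R).toNat := by
  have hN : IsNoetherian R M := isNoetherian_of_tower k inferInstance
  have hA : IsArtinian R M := isArtinian_of_tower k inferInstance
  have hM : IsFiniteLength R M := isFiniteLength_iff_isNoetherian_isArtinian.mpr ⟨hN, hA⟩
  refine ⟨hM, ?_⟩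
  rw [← ENat.toNat_mul, ← length_tower k hM, Module.length_eq_finrank, ENat.toNat_natCast]

end Tower

/-- Two lattices `α, β` in one module with `β G = f α`. -/
theorem dim_sub {k R : Type u} [Field k] [CommRing R] [IsLocalRing R] [IsNoetherianRing R]
    [Ring.KrullDimLE 1 R] [Algebra k R] {S : Type u} [AddCommGroup S] [Module R S] [Module k S]
    [IsScalarTower k R S] {n : ℕ} (α β : (Fin n → R) →ₗ[R] S) (hα : Function.Injective α)
    (hβ : Function.Injective β) {f : R} (hf : f ∈ nonZeroDivisors R) {G : Matrix (Fin n) (Fin n) R}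
    (hG : G.det ∈ nonZeroDivisors R) (h : ∀ v, β (G.mulVec v) = f • α v)
    [Module.Finite k (S ⧸ LinearMap.range α)] [Module.Finite k (S ⧸ LinearMap.range β)] :
    (Module.finrank k (S ⧸ LinearMap.range α) : ℤ) - Module.finrank k (S ⧸ LinearMap.range β) =
      ((resDeg k R).toNat : ℤ) * ((Ring.ord R G.det).toNat - (Ring.ord R (f ^ n)).toNat) := by
  let D : (Fin n → R) →ₗ[R] (Fin n → R) := f • LinearMap.id
  have hdD : LinearMap.det D = f ^ n := by
    simp only [D, LinearMap.det_smul, Module.finrank_fin_fun, LinearMap.det_id, mul_one]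
  have hdG : LinearMap.det G.mulVecLin = G.det := by
    rw [← Matrix.toLin'_apply', LinearMap.det_toLin']
  let γ : (Fin n → R) →ₗ[R] S := β.comp G.mulVecLin
  have hγ : γ = α.comp D := LinearMap.ext fun v => (h v).trans (map_smul α f v).symm
  have key : ∀ (ψ : (Fin n → R) →ₗ[R] S) (D' : (Fin n → R) →ₗ[R] (Fin n → R)),
      Function.Injective ψ → Module.length R (S ⧸ LinearMap.range (ψ.comp D')) =
        Module.length R ((Fin n → R) ⧸ LinearMap.range D') + Module.length R (S ⧸ LinearMap.range ψ) := by
    intro ψ D' hψ
    have hle : LinearMap.range D' ≤ (LinearMap.range (ψ.comp D')).comap ψ := fun y hy => by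
      obtain ⟨w, rfl⟩ := hy
      exact ⟨w, rfl⟩
    refine Module.length_eq_add_of_exact (Submodule.mapQ _ _ ψ hle)
      (Submodule.factor (LinearMap.range_comp_le_range D' ψ)) ?_ (Submodule.factor_surjective _) ?_
    · rw [injective_iff_map_eq_zero]
      intro q
      obtain ⟨v, rfl⟩ := Submodule.Quotient.mk_surjective _ q
      intro hv
      rw [Submodule.mapQ_apply, Submodule.Quotient.mk_eq_zero] at hv
      obtain ⟨w, hw⟩ := hv
      exact (Submodule.Quotient.mk_eq_zero _).mpr ⟨w, hψ hw⟩
    · intro q
      obtain ⟨v, rfl⟩ := Submodule.Quotient.mk_surjective _ q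
      constructor
      · intro hv
        obtain ⟨w, hw⟩ := (Submodule.Quotient.mk_eq_zero _).mp hv
        exact ⟨Submodule.Quotient.mk w, by rw [Submodule.mapQ_apply, hw]; rfl⟩
      · rintro ⟨p, hp⟩
        obtain ⟨w, rfl⟩ := Submodule.Quotient.mk_surjective _ p
        rw [← hp]
        exact (Submodule.Quotient.mk_eq_zero _).mpr ⟨w, rfl⟩
  have h1 := key β G.mulVecLin hβ
  have h2 := key α D hα
  rw [Groth.Agent.S0612.result G.mulVecLin (hdG.symm ▸ hG), hdG] at h1
  rw [Groth.Agent.S0612.result D (hdD.symm ▸ pow_mem hf n), hdD] at h2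
  rw [show β.comp G.mulVecLin = α.comp D from hγ, h2] at h1
  obtain ⟨hA, eA⟩ := finrank_tower k (R := R) (M := S ⧸ LinearMap.range α)
  obtain ⟨hB, eB⟩ := finrank_tower k (R := R) (M := S ⧸ LinearMap.range β)
  have fP : Ring.ord R G.det ≠ ⊤ := Module.length_ne_top_iff.mpr (isFiniteLength_quotient_span_singleton R hG)
  have fQ : Ring.ord R (f ^ n) ≠ ⊤ :=
    Module.length_ne_top_iff.mpr (isFiniteLength_quotient_span_singleton R (pow_mem hf n))
  have fA := Module.length_ne_top_iff.mpr hA
  have fB := Module.length_ne_top_iff.mpr hB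
  have h3 := congrArg ENat.toNat h1
  rw [ENat.toNat_add fQ fA, ENat.toNat_add fP fB] at h3
  rw [eA, eB]
  push_cast
  have h4 : ((Ring.ord R (f ^ n)).toNat : ℤ) + (Module.length R (S ⧸ LinearMap.range α)).toNat =
      (Ring.ord R G.det).toNat + (Module.length R (S ⧸ LinearMap.range β)).toNat := by exact_mod_cast h3
  linear_combination ((resDeg k R).toNat : ℤ) * h4

end DetDegLib
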