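import Groth.Agent.DetDegLib.Clear
import Mathlib.LinearAlgebra.Matrix.Determinant.Basic

/-!
# Clearing the denominators of a matrix
-/

set_option autoImplicit false
set_option linter.style.haveILetI false
universe u

open CategoryTheory CategoryTheory.Limits AlgebraicGeometry TopologicalSpace Opposite DevissLib QCohLib

namespace DetDegLib

variable {X : Scheme.{u}}

/-- A matrix over a smaller affine open, times a power, extends. -/
theorem exists_clear_matrix {n : ℕ} {V W : X.Opens} (hV : IsAffineOpen V) (hW : IsAffineOpen W)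
    (hWV : W ≤ V) (g : Γ(X, V)) (hg : X.basicOpen g ≤ W) (G' : Matrix (Fin n) (Fin n) Γ(X, W)) :
    ∃ (N : ℕ) (H : Matrix (Fin n) (Fin n) Γ(X, V)),
      H.map (X.presheaf.map (homOfLE hWV).op).hom =
        (X.presheaf.map (homOfLE hWV).op).hom g ^ N • G' := by
  haveI : Coh.IsQCoh (Coh.structureModule X) := QCohLib.isQCoh_unit
  choose Ns ts hts using fun i j => exists_lift (M := Coh.structureModule X) hV hW hWV g hg (G' i j)
  let ρ : Γ(X, V) →+* Γ(X, W) := (X.presheaf.map (homOfLE hWV).op).hom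
  refine ⟨∑ i, ∑ j, Ns i j, Matrix.of fun i j =>
    g ^ ((∑ i, ∑ j, Ns i j) - Ns i j) * (show Γ(X, V) from ts i j), ?_⟩
  ext i j
  have hle : Ns i j ≤ ∑ i, ∑ j, Ns i j :=
    (Finset.single_le_sum (fun j _ => Nat.zero_le (Ns i j)) (Finset.mem_univ j)).trans
      (Finset.single_le_sum (f := fun i => ∑ j, Ns i j) (fun i _ => Nat.zero_le _) (Finset.mem_univ i))
  change ρ _ = (ρ g ^ _ • G') i j
  have : ρ (ts i j) = ρ g ^ (Ns i j) * G' i j := hts i j
  simp only [Matrix.of_apply, map_mul, map_pow, Matrix.smul_apply, smul_eq_mul]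
  rw [this, ← mul_assoc, ← pow_add, Nat.sub_add_cancel hle]

end DetDegLib
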